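import Mathlib

/-!
# Conjugate powers (helper30)

`U` of prime order `r`, the centralizer of its nontrivial elements, of index 4 in its normalizer: `x` is conjugate to
`x ^ c` for `c ^ 4 = 1`.
-/

set_option autoImplicit false

universe u

namespace Cfsg.Agent.H30.HTS

open Subgroup

theorem exists_conj_pow {S : Type u} [Group S] [Finite S] {U : Subgroup S} {r : ℕ} [hr : Fact r.Prime]
    (hU : Nat.card U = r) (hC : ∀ u ∈ U, u ≠ 1 → centralizer ({u} : Set S) = U)
    (hN : Nat.card (normalizer (U : Set S)) = 4 * r) {x : S} (hx : x ∈ U) (hx1 : x ≠ 1)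
    (h4 : (Finset.univ.filter (fun t : ZMod r => t ^ 4 = 1)).card ≤ 4) {c : ℕ} (hc : (c : ZMod r) ^ 4 = 1) :
    ∃ n : S, n * x * n⁻¹ = x ^ c := by
  classical
  have hr0 : NeZero r := ⟨hr.out.ne_zero⟩
  have hord : orderOf x = r := by
    have h1 : orderOf x ∣ r := by
      rw [← hU]
      have := orderOf_dvd_natCard (⟨x, hx⟩ : U)
      rwa [Subgroup.orderOf_mk] at this
    rcases (Nat.dvd_prime hr.out).1 h1 with h | h
    · exact absurd (orderOf_eq_one_iff.1 h) hx1
    · exact h
  have hzp : zpowers x = U := by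
    refine Subgroup.eq_of_le_of_card_ge (by rw [zpowers_le]; exact hx) ?_
    rw [Nat.card_zpowers, hord, hU]
  let N := normalizer (U : Set S)
  have hUN : U ≤ N := le_normalizer
  -- the exponents
  have hex : ∀ n ∈ N, ∃ t : ZMod r, n * x * n⁻¹ = x ^ t.val := by
    intro n hn
    have h1 : n * x * n⁻¹ ∈ zpowers x := by
      rw [hzp]
      exact (mem_normalizer_iff.1 hn x).1 hx
    obtain ⟨k, hk⟩ := mem_zpowers_iff.1 h1
    refine ⟨(k : ZMod r), ?_⟩
    rw [← hk, ← zpow_natCast, ZMod.val_intCast, ← hord, zpow_mod_orderOf]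
  choose! t ht using hex
  have hN4 : ∀ n ∈ N, n ^ 4 ∈ U := by
    intro n hn
    have hidx : (U.subgroupOf N).index = 4 := by
      have h1 := (U.subgroupOf N).card_mul_index
      have h2 : Nat.card (U.subgroupOf N) = r := by
        rw [← hU]
        exact Nat.card_congr (Subgroup.subgroupOfEquivOfLe hUN).toEquiv
      have h3 : Nat.card N = 4 * r := hN
      rw [h2, h3, mul_comm] at h1
      exact Nat.eq_of_mul_eq_mul_right hr.out.pos h1
    have h1 := Subgroup.pow_index_mem (U.subgroupOf N) (⟨n, hn⟩ : N)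
    rw [hidx] at h1
    exact h1
  -- `t n ^ 4 = 1`
  have hiter : ∀ n ∈ N, ∀ j : ℕ, n ^ j * x * (n ^ j)⁻¹ = x ^ ((t n).val ^ j) := by
    intro n hn j
    induction j with
    | zero => simp
    | succ j ih =>
      calc n ^ (j + 1) * x * (n ^ (j + 1))⁻¹ = n * (n ^ j * x * (n ^ j)⁻¹) * n⁻¹ := by rw [pow_succ']; group
        _ = (n * x * n⁻¹) ^ ((t n).val ^ j) := by rw [ih, conj_pow]
        _ = x ^ ((t n).val ^ (j + 1)) := by rw [ht n hn, ← pow_mul, pow_succ']
  have heq : ∀ a b : ℕ, x ^ a = x ^ b → (a : ZMod r) = b := by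
    intro a b h
    rw [pow_inj_mod, hord] at h
    exact (ZMod.natCast_eq_natCast_iff a b r).2 h
  have ht4 : ∀ n ∈ N, t n ^ 4 = 1 := by
    intro n hn
    have h1 : n ^ 4 * x * (n ^ 4)⁻¹ = x := by
      have h2 : n ^ 4 ∈ centralizer ({x} : Set S) := by rw [hC x hx hx1]; exact hN4 n hn
      rw [mem_centralizer_singleton_iff] at h2
      rw [h2, mul_inv_cancel_right]
    rw [hiter n hn 4] at h1
    have h3 := heq _ 1 (by rw [h1, pow_one])
    rw [Nat.cast_pow, ZMod.natCast_zmod_val, Nat.cast_one] at h3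
    exact h3
  -- the cosets
  let Q := N ⧸ (U.subgroupOf N)
  have := Fintype.ofFinite Q
  have hQ : Fintype.card Q = 4 := by
    have h1 := (U.subgroupOf N).card_mul_index
    have h2 : Nat.card (U.subgroupOf N) = r := by
      rw [← hU]
      exact Nat.card_congr (Subgroup.subgroupOfEquivOfLe hUN).toEquiv
    have h3 : Nat.card N = 4 * r := hN
    rw [h2, h3, mul_comm] at h1
    rw [← Nat.card_eq_fintype_card]
    exact Nat.eq_of_mul_eq_mul_right hr.out.pos h1
  let T : Q → ZMod r := fun q => t (q.out : N)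
  have hTinj : Function.Injective T := by
    intro q q' h
    have h0 : t (q.out : N) = t (q'.out : N) := h
    have h1 : ((q.out : N) : S) * x * ((q.out : N) : S)⁻¹ = ((q'.out : N) : S) * x * ((q'.out : N) : S)⁻¹ := by
      rw [ht _ (q.out).2, ht _ (q'.out).2, h0]
    have h2 : ((q.out : N) : S)⁻¹ * ((q'.out : N) : S) ∈ centralizer ({x} : Set S) := by
      rw [mem_centralizer_singleton_iff]
      calc ((q.out : N) : S)⁻¹ * ((q'.out : N) : S) * x =
          ((q.out : N) : S)⁻¹ * (((q'.out : N) : S) * x * ((q'.out : N) : S)⁻¹) * ((q'.out : N) : S) := by group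
        _ = x * (((q.out : N) : S)⁻¹ * ((q'.out : N) : S)) := by rw [← h1]; group
    rw [hC x hx hx1] at h2
    rw [← q.out_eq, ← q'.out_eq]
    exact QuotientGroup.eq.2 (Subgroup.mem_subgroupOf.2 h2)
  have hsub : Finset.univ.image T ⊆ Finset.univ.filter (fun t : ZMod r => t ^ 4 = 1) := by
    intro z hz
    obtain ⟨q, -, rfl⟩ := Finset.mem_image.1 hz
    exact Finset.mem_filter.2 ⟨Finset.mem_univ _, ht4 _ (q.out).2⟩
  have hcard : (Finset.univ.image T).card = 4 := by
    rw [Finset.card_image_of_injective _ hTinj, Finset.card_univ, hQ]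
  have hall := Finset.eq_of_subset_of_card_le hsub (by rw [hcard]; exact h4)
  have hcm : (c : ZMod r) ∈ Finset.univ.image T := by
    rw [hall]
    exact Finset.mem_filter.2 ⟨Finset.mem_univ _, hc⟩
  obtain ⟨q, -, hq⟩ := Finset.mem_image.1 hcm
  refine ⟨((q.out : N) : S), ?_⟩
  rw [ht _ (q.out).2, pow_inj_mod, hord]
  have h5 : ((t (q.out : N)).val : ZMod r) = (c : ZMod r) := by rw [ZMod.natCast_zmod_val]; exact hq
  exact (ZMod.natCast_eq_natCast_iff _ _ r).1 h5

end Cfsg.Agent.H30.HTS
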