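import Cfsg.Agent.H30.HTS.Count
import Cfsg.Agent.H30.HTS.ConjPow
import Cfsg.Agent.S0324
import Cfsg.Agent.S0333

/-!
# `Sz(8)` has no character of degree 64 with nonnegative values and mean value 1 (helper30)
-/

set_option autoImplicit false

universe u

namespace Cfsg.Agent.H30.HTS

open Cfsg Subgroup Cfsg.Agent.Characters.Core

theorem d13 : (Finset.univ.filter (fun t : ZMod 13 => t ^ 4 = 1)).card ≤ 4 := by decide

theorem d5 : (Finset.univ.filter (fun t : ZMod 5 => t ^ 4 = 1)).card ≤ 4 := by decide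

theorem c13 : ((5 : ℕ) : ZMod 13) ^ 4 = 1 := by decide

theorem c5 : ((2 : ℕ) : ZMod 5) ^ 4 = 1 := by decide

/-- the two subgroups -/
theorem sz_data {K : Type u} [Field K] [Fintype K] (hK : Fintype.card K = 8) :
    (∃ x : Cfsg.Sz K 1, orderOf x = 13 ∧ (∃ n : Cfsg.Sz K 1, n * x * n⁻¹ = x ^ 5) ∧
      (normalizer (zpowers x : Set (Cfsg.Sz K 1))).index = 560) ∧
    (∃ x : Cfsg.Sz K 1, orderOf x = 5 ∧ (∃ n : Cfsg.Sz K 1, n * x * n⁻¹ = x ^ 2) ∧
      (normalizer (zpowers x : Set (Cfsg.Sz K 1))).index = 1456) := by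
  have hF : Fintype.card K = 2 ^ (2 * 1 + 1) := hK
  have hcard : Nat.card (Cfsg.Sz K 1) = 29120 := by
    rw [Cfsg.Agent.S0324.result (le_refl 1) hF]
    norm_num
  have key : ∀ (k c idx : ℕ) [Fact k.Prime], k ∈ ({2 ^ (2 * 1 + 1) + 2 ^ (1 + 1) + 1, 2 ^ (2 * 1 + 1) - 2 ^ (1 + 1) + 1} : Set ℕ) →
      (Finset.univ.filter (fun t : ZMod k => t ^ 4 = 1)).card ≤ 4 → (c : ZMod k) ^ 4 = 1 → idx * (4 * k) = 29120 →
      ∃ x : Cfsg.Sz K 1, orderOf x = k ∧ (∃ n : Cfsg.Sz K 1, n * x * n⁻¹ = x ^ c) ∧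
        (normalizer (zpowers x : Set (Cfsg.Sz K 1))).index = idx := by
    intro k c idx hk hmem h4 hc hidx
    obtain ⟨U, -, hU, hC, hN⟩ := Cfsg.Agent.S0333.result (le_refl 1) hF k hmem
    have hfin : Finite (Cfsg.Sz K 1) := Nat.finite_of_card_ne_zero (by rw [hcard]; norm_num)
    obtain ⟨x, hx⟩ := exists_prime_orderOf_dvd_card' (G := U) k (by rw [hU])
    have hx' : orderOf (x : Cfsg.Sz K 1) = k := by rw [Subgroup.orderOf_coe, hx]
    have hx1 : (x : Cfsg.Sz K 1) ≠ 1 := by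
      intro h
      rw [h, orderOf_one] at hx'
      exact hk.out.one_lt.ne hx'
    have hzp : zpowers (x : Cfsg.Sz K 1) = U := by
      refine Subgroup.eq_of_le_of_card_ge (by rw [zpowers_le]; exact x.2) ?_
      rw [Nat.card_zpowers, hx', hU]
    refine ⟨x, hx', exists_conj_pow hU hC hN x.2 hx1 h4 hc, ?_⟩
    rw [hzp]
    have h1 := (normalizer (U : Set (Cfsg.Sz K 1))).card_mul_index
    rw [hN, hcard, ← hidx, mul_comm] at h1
    exact Nat.eq_of_mul_eq_mul_right (Nat.mul_pos (by norm_num) hk.out.pos) h1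
  have : Fact (Nat.Prime 13) := ⟨by norm_num⟩
  have : Fact (Nat.Prime 5) := ⟨by norm_num⟩
  exact ⟨key 13 5 560 (by norm_num) d13 c13 (by norm_num), key 5 2 1456 (by norm_num) d5 c5 (by norm_num)⟩

theorem no_char_sz {K : Type u} [Field K] [Fintype K] (hK : Fintype.card K = 8) [Fintype (Cfsg.Sz K 1)]
    {Ψ : Cfsg.Sz K 1 → ℂ} (hΨ : IsCharacter (Cfsg.Sz K 1) Ψ) (hre : ∀ s, 0 ≤ (Ψ s).re) (h1 : Ψ 1 = 64)
    (hsum : ∑ s, Ψ s = Nat.card (Cfsg.Sz K 1)) : False := by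
  classical
  have hF : Fintype.card K = 2 ^ (2 * 1 + 1) := hK
  have hcard : Nat.card (Cfsg.Sz K 1) = 29120 := by
    rw [Cfsg.Agent.S0324.result (le_refl 1) hF]
    norm_num
  obtain ⟨⟨x, hx, hxn, hxi⟩, ⟨y, hy, hyn, hyi⟩⟩ := sz_data hK
  have : Fact (Nat.Prime 13) := ⟨by norm_num⟩
  have : Fact (Nat.Prime 5) := ⟨by norm_num⟩
  have hcl := isCharacter_isClassFunction hΨ
  have hcl' : ∀ s g : Cfsg.Sz K 1, (Ψ (g * s * g⁻¹)).re = (Ψ s).re := fun s g => by rw [hcl s g]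
  have h13 := sum_conj_ge (r := 13) (f := fun s => (Ψ s).re) hre hcl' hx
  have h5 := sum_conj_ge (r := 5) (f := fun s => (Ψ s).re) hre hcl' hy
  have k13 := thirteen_ge hΨ hre h1 hx hxn
  have k5 := five_ge hΨ hre h1 hy hyn
  rw [hxi] at h13
  rw [hyi] at h5
  -- the total
  have htot : ∑ s, (Ψ s).re = 29120 := by
    have h2 := congrArg Complex.re hsum
    rw [Complex.re_sum, hcard] at h2
    simpa using h2
  have hdis : Disjoint (Finset.univ.filter (fun s : Cfsg.Sz K 1 => orderOf s = 13))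
      (Finset.univ.filter (fun s : Cfsg.Sz K 1 => orderOf s = 5)) := by
    rw [Finset.disjoint_filter]
    intro s _ h h'
    omega
  have hle : ∑ s ∈ Finset.univ.filter (fun s : Cfsg.Sz K 1 => orderOf s = 13), (Ψ s).re +
      ∑ s ∈ Finset.univ.filter (fun s : Cfsg.Sz K 1 => orderOf s = 5), (Ψ s).re ≤ ∑ s, (Ψ s).re := by
    rw [← Finset.sum_union hdis]
    exact Finset.sum_le_sum_of_subset_of_nonneg (Finset.subset_univ _) fun s _ _ => hre s
  rw [htot] at hle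
  norm_num at h13 h5 k13 k5
  nlinarith

end Cfsg.Agent.H30.HTS
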