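import Cfsg.Agent.H30.HTS.QuotChar
import Cfsg.Agent.H30.HTS.SzNo
import Cfsg.Agent.H680.ExcSz
import Cfsg.Agent.H845.LiftIrr
import Cfsg.Agent.H915.LD
import Cfsg.Agent.H912.MultChar

/-!
# No core of degree 8 with socle `Sz(8)` in coprime characteristic (helper30)
-/

set_option autoImplicit false

universe u v

namespace Cfsg.Agent.H30.HTS

open Cfsg Cfsg.Geo Subgroup Cfsg.Agent.Characters.Core Cfsg.Agent.H915.LD
open scoped ComplexConjugate

variable {F : Type u} [Field F] [Finite F] {p : ℕ} [hp : Fact p.Prime] [CharP F p]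

/-- the order of the core is prime to `p` if that of the socle is -/
theorem not_dvd_card {n : ℕ} {P : Subgroup (Matrix.GeneralLinearGroup (Fin n) F)} (hn : 0 < n)
    (hpc : ¬ p ∣ Nat.card (Soc P)) : ¬ p ∣ Nat.card P := by
  have hfin : Finite P := inferInstance
  intro hd
  have h1 := Subgroup.card_eq_card_quotient_mul_card_subgroup ((scalars (Fin n) F).subgroupOf P)
  rw [h1] at hd
  rcases (Nat.Prime.dvd_mul hp.out).1 hd with h | h
  · exact hpc h
  · obtain ⟨z, hz⟩ := exists_prime_orderOf_dvd_card' (G := (scalars (Fin n) F).subgroupOf P) p h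
    have hz1 : z ≠ 1 := by
      rintro rfl
      rw [orderOf_one] at hz
      exact hp.out.one_lt.ne hz
    apply hz1
    obtain ⟨c, hc⟩ := (mem_scalars_iff _).1 (mem_subgroupOf.1 z.2)
    have hpow : ((z : P) : Matrix.GeneralLinearGroup (Fin n) F) ^ p = 1 := by
      have := pow_orderOf_eq_one z
      rw [hz] at this
      have h2 := congrArg (fun w : (scalars (Fin n) F).subgroupOf P => ((w : P) : Matrix.GeneralLinearGroup (Fin n) F)) this
      simpa using h2
    have h3 : ((c : F) • (1 : Matrix (Fin n) (Fin n) F)) ^ p = 1 := by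
      rw [← hc, ← Units.val_pow_eq_pow_val, hpow, Units.val_one]
    rw [smul_pow, one_pow] at h3
    have h4 := congrFun (congrFun h3 ⟨0, hn⟩) ⟨0, hn⟩
    rw [Matrix.smul_apply, Matrix.one_apply_eq, smul_eq_mul, mul_one] at h4
    have h5 : (c : F) = 1 := by
      apply frobenius_inj F p
      rw [frobenius_def, frobenius_def, one_pow, h4]
    ext i j
    show ((z : P) : Matrix.GeneralLinearGroup (Fin n) F).val i j = (1 : Matrix (Fin n) (Fin n) F) i j
    rw [hc, h5, one_smul]

/-- the complex lift -/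
theorem exists_lift {n : ℕ} {P : Subgroup (Matrix.GeneralLinearGroup (Fin n) F)} (hn : 0 < n) (hC : Core P)
    (hpc : ¬ p ∣ Nat.card (Soc P)) : ∃ ρ : Representation ℂ P (Fin n → ℂ), ρ.IsIrreducible := by
  have hfin : Finite P := inferInstance
  obtain ⟨ρ, hρ, -⟩ := Cfsg.Agent.H845.LiftIrr.exists_irr_lift (p := p) (F := F) (not_dvd_card hn hpc) hn P.subtype (by
    intro X hX
    refine hC.absIrred.2 X ?_
    rintro _ ⟨g, hg, rfl⟩
    exact hX ⟨g, hg⟩)
  exact ⟨ρ, hρ⟩

omit [Finite F] in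
/-- the scalars are central -/
theorem scalars_le {n : ℕ} (P : Subgroup (Matrix.GeneralLinearGroup (Fin n) F)) :
    (scalars (Fin n) F).subgroupOf P ≤ center P := by
  intro z hz
  obtain ⟨c, hc⟩ := (mem_scalars_iff _).1 (mem_subgroupOf.1 hz)
  rw [mem_center_iff]
  intro g
  apply Subtype.ext
  apply Units.ext
  show (g : Matrix.GeneralLinearGroup (Fin n) F).val * (z : Matrix.GeneralLinearGroup (Fin n) F).val =
    (z : Matrix.GeneralLinearGroup (Fin n) F).val * (g : Matrix.GeneralLinearGroup (Fin n) F).val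
  rw [hc, Matrix.smul_mul, Matrix.mul_smul, one_mul, mul_one]

/-- **No core of degree 8 with socle `Sz(8)` in coprime characteristic.** -/
theorem core_not_sz8 {P : Subgroup (Matrix.GeneralLinearGroup (Fin 8) F)} (hC : Core P) (hpc : ¬ p ∣ Nat.card (Soc P))
    (hT : H912.Bd.IsSz8 (Soc P)) : False := by
  have hfin : Finite P := inferInstance
  obtain ⟨K, iK, iKf, hK, ⟨e⟩⟩ := hT
  have hF : Fintype.card K = 2 ^ (2 * 1 + 1) := hK
  let e1 : Cfsg.Sz K 1 ≃* Soc P := (Cfsg.Agent.H680.Exc.iso (le_refl 1) hF).trans e.symm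
  obtain ⟨ρ, hρ⟩ := exists_lift (by norm_num) hC hpc
  obtain ⟨Ψ, hΨ, hv⟩ := exists_quot_char ((scalars (Fin 8) F).subgroupOf P) (scalars_le P) ρ hρ
  have := Fintype.ofFinite (Soc P)
  have hs := sum_quot_char ((scalars (Fin 8) F).subgroupOf P) ρ hρ hv
  have hfS : Finite (Cfsg.Sz K 1) := Finite.of_equiv _ e1.symm.toEquiv
  have := Fintype.ofFinite (Cfsg.Sz K 1)
  refine no_char_sz hK (Ψ := Ψ ∘ e1) (isCharacter_comp (e1 : Cfsg.Sz K 1 →* Soc P) hΨ) ?_ ?_ ?_
  · intro s
    obtain ⟨g, hg⟩ := QuotientGroup.mk_surjective (e1 s)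
    show 0 ≤ (Ψ (e1 s)).re
    rw [← hg]
    have h1 := hv g
    have h2 : Ψ (QuotientGroup.mk g) = ρ.character g * conj (ρ.character g) := h1
    rw [h2, Complex.mul_conj, Complex.ofReal_re]
    exact Complex.normSq_nonneg _
  · show Ψ (e1 1) = 64
    rw [map_one]
    have h1 := hv 1
    have h2 : Ψ 1 = ρ.character 1 * conj (ρ.character 1) := h1
    rw [h2, Representation.char_one, Module.finrank_fin_fun]
    have h3 : (starRingEnd ℂ) (((8 : ℕ) : ℂ)) = ((8 : ℕ) : ℂ) := map_natCast _ 8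
    rw [h3]
    norm_num
  · have h1 : ∑ s : Cfsg.Sz K 1, (Ψ ∘ e1) s = ∑ s : Soc P, Ψ s := Fintype.sum_equiv e1.toEquiv _ _ fun _ => rfl
    rw [h1, hs]
    exact congrArg _ (Nat.card_congr e1.toEquiv).symm

end Cfsg.Agent.H30.HTS
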