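import Cfsg.Agent.Characters.Core
import Cfsg.Agent.Blocks.Central

/-!
# A counting argument for `Sz(8)` (helper30)

`Ψ` a character of degree 64 with real nonnegative values: a lower bound for the sum of its values over the conjugates of
the generators of a subgroup of order 5 or 13 on which a subgroup of order 4 acts.
-/

set_option autoImplicit false

universe u

namespace Cfsg.Agent.H30.HTS

open Cfsg Subgroup Cfsg.Agent.Characters.Core

variable {S : Type u} [Group S]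

/-- the sum of a character over the powers of an element -/
theorem exists_sum_pow [Finite S] {Ψ : S → ℂ} (hΨ : IsCharacter S Ψ) (x : S) :
    ∃ a : ℕ, ∑ i ∈ Finset.range (orderOf x), Ψ (x ^ i) = (orderOf x : ℂ) * a := by
  classical
  obtain ⟨n, ρ, rfl⟩ := hΨ
  have := Fintype.ofFinite (zpowers x)
  have hc : (Nat.card (zpowers x) : ℂ) ≠ 0 := by exact_mod_cast Nat.card_pos.ne'
  let ρ' : Representation ℂ (zpowers x) (Fin n → ℂ) := ρ.comp (zpowers x).subtype
  let _ : Invertible (Nat.card (zpowers x) : ℂ) := invertibleOfNonzero hc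
  have h1 := Representation.card_inv_mul_sum_char_eq_finrank ρ'
  refine ⟨Module.finrank ℂ ρ'.invariants, ?_⟩
  have h2 : ∑ i ∈ Finset.range (orderOf x), ρ.character (x ^ i) = ∑ g : zpowers x, ρ'.character g := by
    rw [← Fin.sum_univ_eq_sum_range (fun i => ρ.character (x ^ i))]
    exact Fintype.sum_equiv (finEquivZPowers (isOfFinOrder_of_finite x)) _ _ fun i => rfl
  rw [h2, ← h1, Nat.card_zpowers] at *
  rw [mul_inv_cancel_left₀ hc]

theorem isIntegral_char [Finite S] {Ψ : S → ℂ} (hΨ : IsCharacter S Ψ) (g : S) : IsIntegral ℤ (Ψ g) := by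
  obtain ⟨n, ρ, rfl⟩ := hΨ
  exact Cfsg.Agent.Blocks.Central.isIntegral_character ρ g

/-- an algebraic integer which is a quarter of an integer -/
theorem exists_int {z : ℂ} (hz : IsIntegral ℤ z) {k : ℤ} (h : 4 * z = k) : ∃ m : ℤ, z = m := by
  have h1 : z = ((k / 4 : ℚ) : ℂ) := by
    push_cast
    rw [← h]
    ring
  rw [h1] at hz
  have h2 : IsIntegral ℤ (k / 4 : ℚ) := by
    have : (algebraMap ℚ ℂ) (k / 4 : ℚ) = ((k / 4 : ℚ) : ℂ) := rfl
    rw [← this] at hz
    exact (isIntegral_algebraMap_iff (algebraMap ℚ ℂ).injective).1 hz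
  obtain ⟨m, hm⟩ := (IsIntegrallyClosed.isIntegral_iff (R := ℤ) (K := ℚ)).1 h2
  refine ⟨m, ?_⟩
  rw [h1, ← hm]
  simp

/-- **order 5** -/
theorem five_ge [Finite S] {Ψ : S → ℂ} (hΨ : IsCharacter S Ψ) (hpos : ∀ s, 0 ≤ (Ψ s).re) (h1 : Ψ 1 = 64) {x : S}
    (hx : orderOf x = 5) (hn : ∃ n : S, n * x * n⁻¹ = x ^ 2) : 16 ≤ ∑ i ∈ Finset.range 4, (Ψ (x ^ (i + 1))).re := by
  have hcl := isCharacter_isClassFunction hΨ
  obtain ⟨n, hn⟩ := hn
  have hx5 : x ^ 5 = 1 := by rw [← hx]; exact pow_orderOf_eq_one x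
  have e : ∀ i : ℕ, Ψ (x ^ (2 * i)) = Ψ (x ^ i) := by
    intro i
    rw [pow_mul, ← hn, conj_pow]
    exact hcl _ _
  have e2 : Ψ (x ^ 2) = Ψ x := by have := e 1; rwa [mul_one, pow_one] at this
  have e4 : Ψ (x ^ 4) = Ψ x := by rw [show 4 = 2 * 2 from rfl, e 2, e2]
  have e3 : Ψ (x ^ 3) = Ψ x := by
    have := e 4
    rw [show 2 * 4 = 5 + 3 from rfl, pow_add, hx5, one_mul, e4] at this
    exact this
  obtain ⟨a, ha⟩ := exists_sum_pow hΨ x
  rw [hx] at ha
  simp only [Finset.sum_range_succ, Finset.sum_range_zero, zero_add, pow_zero, pow_one] at ha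
  rw [h1, e2, e3, e4] at ha
  have h4 : 4 * Ψ x = ((5 * a - 64 : ℤ) : ℂ) := by
    push_cast
    push_cast at ha
    linear_combination ha
  obtain ⟨m, hm⟩ := exists_int (isIntegral_char hΨ x) h4
  rw [hm] at h4
  have h5 : 4 * m = 5 * a - 64 := by exact_mod_cast h4
  have h6 : 0 ≤ m := by
    have := hpos x
    rw [hm] at this
    simpa using this
  have h7 : 4 ≤ m := by omega
  simp only [Finset.sum_range_succ, Finset.sum_range_zero, zero_add, pow_one]
  norm_num
  rw [e2, e3, e4, hm]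
  have h8 : (4 : ℝ) ≤ m := by exact_mod_cast h7
  simp
  linarith

/-- **order 13** -/
theorem thirteen_ge [Finite S] {Ψ : S → ℂ} (hΨ : IsCharacter S Ψ) (hpos : ∀ s, 0 ≤ (Ψ s).re) (h1 : Ψ 1 = 64) {x : S}
    (hx : orderOf x = 13) (hn : ∃ n : S, n * x * n⁻¹ = x ^ 5) : 40 ≤ ∑ i ∈ Finset.range 12, (Ψ (x ^ (i + 1))).re := by
  have hcl := isCharacter_isClassFunction hΨ
  obtain ⟨n, hn⟩ := hn
  have hx13 : x ^ 13 = 1 := by rw [← hx]; exact pow_orderOf_eq_one x
  have e : ∀ i : ℕ, Ψ (x ^ (5 * i)) = Ψ (x ^ i) := by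
    intro i
    rw [pow_mul, ← hn, conj_pow]
    exact hcl _ _
  have red : ∀ i k : ℕ, x ^ (13 * k + i) = x ^ i := by
    intro i k
    rw [pow_add, pow_mul, hx13, one_pow, one_mul]
  have e5 : Ψ (x ^ 5) = Ψ x := by have := e 1; rwa [mul_one, pow_one] at this
  have e12 : Ψ (x ^ 12) = Ψ x := by
    have := e 5
    rwa [show 5 * 5 = 13 * 1 + 12 from rfl, red, e5] at this
  have e8 : Ψ (x ^ 8) = Ψ x := by
    have := e 12
    rwa [show 5 * 12 = 13 * 4 + 8 from rfl, red, e12] at this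
  have e10 : Ψ (x ^ 10) = Ψ (x ^ 2) := e 2
  have e11 : Ψ (x ^ 11) = Ψ (x ^ 2) := by
    have := e 10
    rwa [show 5 * 10 = 13 * 3 + 11 from rfl, red, e10] at this
  have e3 : Ψ (x ^ 3) = Ψ (x ^ 2) := by
    have := e 11
    rwa [show 5 * 11 = 13 * 4 + 3 from rfl, red, e11] at this
  have e7 : Ψ (x ^ 7) = Ψ (x ^ 4) := by
    have := e 4
    rwa [show 5 * 4 = 13 * 1 + 7 from rfl, red] at this
  have e9 : Ψ (x ^ 9) = Ψ (x ^ 4) := by
    have := e 7
    rwa [show 5 * 7 = 13 * 2 + 9 from rfl, red, e7] at this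
  have e6 : Ψ (x ^ 6) = Ψ (x ^ 4) := by
    have := e 9
    rwa [show 5 * 9 = 13 * 3 + 6 from rfl, red, e9] at this
  obtain ⟨a, ha⟩ := exists_sum_pow hΨ x
  rw [hx] at ha
  simp only [Finset.sum_range_succ, Finset.sum_range_zero, zero_add, pow_zero, pow_one] at ha
  rw [h1, e3, e5, e6, e7, e8, e9, e10, e11, e12] at ha
  have h4 : 4 * (Ψ x + Ψ (x ^ 2) + Ψ (x ^ 4)) = ((13 * a - 64 : ℤ) : ℂ) := by
    push_cast
    push_cast at ha
    linear_combination ha
  obtain ⟨m, hm⟩ := exists_int (((isIntegral_char hΨ x).add (isIntegral_char hΨ (x ^ 2))).add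
    (isIntegral_char hΨ (x ^ 4))) h4
  rw [hm] at h4
  have h5 : 4 * m = 13 * a - 64 := by exact_mod_cast h4
  have h9 := congrArg Complex.re hm
  simp only [Complex.add_re, Complex.intCast_re] at h9
  have h6 : 0 ≤ m := by
    have h10 := hpos x
    have h11 := hpos (x ^ 2)
    have h12 := hpos (x ^ 4)
    have : (0 : ℝ) ≤ m := by linarith
    exact_mod_cast this
  have h7 : 10 ≤ m := by omega
  have h8 : (10 : ℝ) ≤ m := by exact_mod_cast h7
  simp only [Finset.sum_range_succ, Finset.sum_range_zero, zero_add, pow_one]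
  norm_num
  rw [e3, e5, e6, e7, e8, e9, e10, e11, e12]
  linarith

/-- the conjugates of the generators of a subgroup of prime order -/
theorem sum_conj_ge [Fintype S] [DecidableEq S] {r : ℕ} [hr : Fact r.Prime] {f : S → ℝ} (hpos : ∀ s, 0 ≤ f s)
    (hcl : ∀ s g, f (g * s * g⁻¹) = f s) {x : S} (hx : orderOf x = r) :
    ((normalizer (zpowers x : Set S)).index : ℝ) * ∑ i ∈ Finset.range (r - 1), f (x ^ (i + 1)) ≤
      ∑ s ∈ Finset.univ.filter (fun s => orderOf s = r), f s := by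
  classical
  let N := normalizer (zpowers x : Set S)
  let φ : (S ⧸ N) × ℕ → S := fun c => c.1.out * x ^ (c.2 + 1) * c.1.out⁻¹
  have hord : ∀ i ∈ Finset.range (r - 1), orderOf (x ^ (i + 1)) = r := by
    intro i hi
    rw [Finset.mem_range] at hi
    have h1 : Nat.Coprime r (i + 1) := (hr.out.coprime_iff_not_dvd).2 fun hd => by
      have := Nat.le_of_dvd (by omega) hd
      omega
    rw [orderOf_pow, hx, h1.gcd_eq_one, Nat.div_one]
  have hzp : ∀ i ∈ Finset.range (r - 1), zpowers (x ^ (i + 1)) = zpowers x := by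
    intro i hi
    refine Subgroup.eq_of_le_of_card_ge (by rw [zpowers_le]; exact npow_mem_zpowers x _) ?_
    rw [Nat.card_zpowers, Nat.card_zpowers, hord i hi, hx]
  have hinj : Set.InjOn φ ((Finset.univ ×ˢ Finset.range (r - 1) : Finset ((S ⧸ N) × ℕ)) : Set ((S ⧸ N) × ℕ)) := by
    rintro ⟨q, i⟩ hi ⟨q', j⟩ hj h
    rw [Finset.mem_coe, Finset.mem_product] at hi hj
    have h1 : q.out * x ^ (i + 1) * q.out⁻¹ = q'.out * x ^ (j + 1) * q'.out⁻¹ := h
    have h2 : (q'.out⁻¹ * q.out) * x ^ (i + 1) * (q'.out⁻¹ * q.out)⁻¹ = x ^ (j + 1) := by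
      calc (q'.out⁻¹ * q.out) * x ^ (i + 1) * (q'.out⁻¹ * q.out)⁻¹ =
          q'.out⁻¹ * (q.out * x ^ (i + 1) * q.out⁻¹) * q'.out := by group
        _ = x ^ (j + 1) := by rw [h1]; group
    have h3 : q'.out⁻¹ * q.out ∈ N := by
      show q'.out⁻¹ * q.out ∈ normalizer (zpowers x : Set S)
      rw [mem_normalizer_iff_map_conj_eq]
      conv_lhs => rw [← hzp i hi.2]
      show (zpowers (x ^ (i + 1))).map ((MulAut.conj (q'.out⁻¹ * q.out)).toMonoidHom) = _
      rw [MonoidHom.map_zpowers]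
      show zpowers ((q'.out⁻¹ * q.out) * x ^ (i + 1) * (q'.out⁻¹ * q.out)⁻¹) = _
      rw [h2, hzp j hj.2]
    have h4 : q' = q := by
      rw [← q.out_eq, ← q'.out_eq]
      exact QuotientGroup.eq.2 h3
    subst h4
    have h5 : x ^ (i + 1) = x ^ (j + 1) := mul_left_cancel (mul_right_cancel h1)
    have h6 := (pow_inj_mod (x := x)).1 h5
    have hi' := Finset.mem_range.1 hi.2
    have hj' := Finset.mem_range.1 hj.2
    rw [hx, Nat.mod_eq_of_lt (by omega), Nat.mod_eq_of_lt (by omega)] at h6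
    have h7 : i = j := by omega
    rw [h7]
  have hidx : (N.index : ℝ) = ((Finset.univ : Finset (S ⧸ N)).card : ℝ) := by
    rw [Finset.card_univ, ← Nat.card_eq_fintype_card]
    rfl
  calc (N.index : ℝ) * ∑ i ∈ Finset.range (r - 1), f (x ^ (i + 1)) =
      ∑ c ∈ (Finset.univ ×ˢ Finset.range (r - 1) : Finset ((S ⧸ N) × ℕ)), f (φ c) := by
        rw [Finset.sum_product]
        simp only [φ, hcl]
        rw [Finset.sum_const, nsmul_eq_mul, hidx]
    _ = ∑ s ∈ (Finset.univ ×ˢ Finset.range (r - 1) : Finset ((S ⧸ N) × ℕ)).image φ, f s := by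
        rw [Finset.sum_image hinj]
    _ ≤ _ := by
        refine Finset.sum_le_sum_of_subset_of_nonneg ?_ fun s _ _ => hpos s
        intro s hs
        obtain ⟨c, hc, rfl⟩ := Finset.mem_image.1 hs
        rw [Finset.mem_product] at hc
        refine Finset.mem_filter.2 ⟨Finset.mem_univ _, ?_⟩
        have h1 : orderOf (c.1.out * x ^ (c.2 + 1) * c.1.out⁻¹) = orderOf (x ^ (c.2 + 1)) := by
          have := MulEquiv.orderOf_eq (MulAut.conj c.1.out) (x ^ (c.2 + 1))
          simpa using this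
        show orderOf (c.1.out * x ^ (c.2 + 1) * c.1.out⁻¹) = r
        rw [h1, hord _ hc.2]

end Cfsg.Agent.H30.HTS
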