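import Cfsg.Agent.Characters.Core
import Cfsg.Agent.Characters.FixedPointFree

/-!
# The character `|χ|²` of a quotient by central elements (helper30)
-/

set_option autoImplicit false

universe u

namespace Cfsg.Agent.H30.HTS

open Cfsg Subgroup Cfsg.Agent.Characters.Core
open scoped ComplexConjugate

theorem exists_quot_char {P : Type u} [Group P] [Finite P] (Z : Subgroup P) [Z.Normal] (hZ : Z ≤ center P) {n : ℕ}
    (ρ : Representation ℂ P (Fin n → ℂ)) (hρ : ρ.IsIrreducible) : ∃ Ψ : P ⧸ Z → ℂ, IsCharacter (P ⧸ Z) Ψ ∧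
      ∀ g : P, Ψ (g : P ⧸ Z) = ρ.character g * conj (ρ.character g) := by
  have hker : Z ≤ (Representation.linHom ρ ρ : P →* _).ker := by
    intro z hz
    rw [MonoidHom.mem_ker]
    obtain ⟨c, hc⟩ := Cfsg.Agent.Characters.FixedPointFree.exists_smul_of_comm ρ hρ (ρ z) (fun g => by
      have h1 := mem_center_iff.1 (hZ hz) g
      show ρ z * ρ g = ρ g * ρ z
      rw [← map_mul, ← map_mul, h1])
    refine LinearMap.ext fun f => ?_
    refine LinearMap.ext fun v => ?_
    rw [Representation.linHom_apply]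
    show ρ z (f (ρ z⁻¹ v)) = f v
    rw [hc]
    show c • f (ρ z⁻¹ v) = f v
    rw [← map_smul]
    have h2 : c • ρ z⁻¹ v = ρ z (ρ z⁻¹ v) := by rw [hc]; rfl
    rw [h2]
    have h3 : ρ z (ρ z⁻¹ v) = v := by
      rw [← Module.End.mul_apply, ← map_mul, mul_inv_cancel, map_one]
      rfl
    rw [h3]
  let τ : Representation ℂ (P ⧸ Z) ((Fin n → ℂ) →ₗ[ℂ] (Fin n → ℂ)) := QuotientGroup.lift Z (Representation.linHom ρ ρ) hker
  refine ⟨τ.character, isCharacter_of_rep τ, fun g => ?_⟩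
  have h1 : τ.character (g : P ⧸ Z) = (Representation.linHom ρ ρ).character g := rfl
  rw [h1, Representation.char_linHom, mul_comm]
  have h2 : ρ.character g⁻¹ = conj (ρ.character g) := by
    exact isCharacter_apply_inv ⟨n, ρ, rfl⟩ g
  rw [h2]

/-- the sum of the values -/
theorem sum_quot_char {P : Type u} [Group P] [Finite P] (Z : Subgroup P) [Z.Normal] {n : ℕ} [Fintype (P ⧸ Z)]
    (ρ : Representation ℂ P (Fin n → ℂ)) (hρ : ρ.IsIrreducible) {Ψ : P ⧸ Z → ℂ}
    (h : ∀ g : P, Ψ (g : P ⧸ Z) = ρ.character g * conj (ρ.character g)) :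
    ∑ s : P ⧸ Z, Ψ s = Nat.card (P ⧸ Z) := by
  classical
  have := Fintype.ofFinite P
  have h1 := classInner_irr_self (χ := ρ.character) ⟨n, ρ, hρ, rfl⟩
  rw [classInner_def] at h1
  have h2 : ∑ g : P, ρ.character g * conj (ρ.character g) = Nat.card P := by
    have h3 : (Nat.card P : ℂ) ≠ 0 := card_ne_zero_complex
    field_simp at h1
    exact h1
  have h4 : ∑ g : P, ρ.character g * conj (ρ.character g) = (Nat.card Z : ℂ) * ∑ s : P ⧸ Z, Ψ s := by
    rw [Finset.mul_sum, ← Finset.sum_fiberwise (s := Finset.univ) (g := fun g : P => (g : P ⧸ Z))]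
    refine Finset.sum_congr rfl fun s _ => ?_
    rw [Finset.sum_congr rfl (g := fun _ => Ψ s) (fun g hg => by
      rw [← h g, (Finset.mem_filter.1 hg).2]), Finset.sum_const, nsmul_eq_mul]
    congr 2
    obtain ⟨g₀, rfl⟩ := QuotientGroup.mk_surjective s
    rw [← Fintype.card_subtype, ← Nat.card_eq_fintype_card]
    refine Nat.card_congr ⟨fun g => ⟨g₀⁻¹ * g.1, QuotientGroup.eq.1 g.2.symm⟩, fun z => ⟨g₀ * z.1, by
      rw [eq_comm, QuotientGroup.eq]; simp⟩, fun g => by ext; simp, fun z => by ext; simp⟩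
  rw [h4, Subgroup.card_eq_card_quotient_mul_card_subgroup Z] at h2
  push_cast at h2
  have h5 : (Nat.card Z : ℂ) ≠ 0 := by exact_mod_cast Nat.card_pos.ne'
  rw [mul_comm (Nat.card (P ⧸ Z) : ℂ)] at h2
  exact mul_left_cancel₀ h5 h2

end Cfsg.Agent.H30.HTS
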