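import Cfsg.Agent.H30.HTS.Spor
import Cfsg.Agent.H936.List12c
import Cfsg.Agent.H530.HT.SmAll
import Cfsg.Agent.H348.HT.AltDead
import Cfsg.Agent.H979.LieSplit
import Cfsg.Agent.H580.LieBad

/-!
# S3540, quasisimple rows, degree 5, 7, ..., 12 (helper30, helper348, helper530)
-/

set_option autoImplicit false

universe u v

namespace Cfsg.Agent.H30.HTS

open Cfsg Cfsg.Geo Cfsg.Agent.H915.LD Cfsg.Agent.H337.HT Cfsg.Agent.H936.List12

variable {F : Type u} [Field F] [Finite F] {p n : ℕ} [hp : Fact p.Prime] [CharP F p]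

/-- the characteristic divides the order -/
theorem dvd_card_of_lie {T : Type v} [Group T] [Finite T] [IsSimpleGroup T] (hG : IsLieTypeChar p T) :
    p ∣ Nat.card T := by
  obtain ⟨P, U, ⟨s, hs⟩, hU⟩ := H979.LieSplit.hasSplit_of_isLieTypeChar hp.out hG
  exact H580.LieBad.dvd_card hU hs

/-- **The degrees 5, 7, ..., 12.** -/
theorem small {P : Subgroup (Matrix.GeneralLinearGroup (Fin n) F)} (hC : Core P) (hn : n ≤ 12)
    (hk : IsKnownSimple' (Soc P)) (hpc : ¬ p ∣ Nat.card (Soc P)) (h6 : n ≠ 6) (h5 : 5 ≤ n) :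
    Dead n (Soc P) ∨ (n = 12 ∧ (H912.Bd.IsL 2 25 (Soc P) ∨ H912.Bd.IsU 3 4 (Soc P))) := by
  have := hC.simple
  have hfin : Finite (Soc P) := inferInstance
  rcases list₂ hn hC hk (fun h => hpc (dvd_card_of_lie h)) with h | h | h | h | h
  · exact Or.inl (H348.HT.alt_dead h h5 h6 hn hpc)
  · exact H530.HT.small_all hC hn h5 h6 hpc (Or.inl h)
  · exact H530.HT.small_all hC hn h5 h6 hpc (Or.inr (Or.inl h))
  · exact H530.HT.small_all hC hn h5 h6 hpc (Or.inr (Or.inr h))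
  · exact Or.inl (dead_spor hC hpc h hn h5 h6)

end Cfsg.Agent.H30.HTS
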