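import Cfsg.Agent.H30.HTS.Tool
import Cfsg.Agent.H921.SporCore
import Cfsg.Agent.H878.Sz.MainThree
import Cfsg.Agent.H936.List12b
import Cfsg.Agent.H852.IMMathieu
import Cfsg.Agent.SporRec.J1.Words
import Cfsg.Agent.H898.J3Cent
import Cfsg.Agent.H713.Spor.Tool
import Cfsg.Agent.S0364
import Cfsg.Agent.S1619
import Cfsg.Agent.S1694
import Cfsg.Agent.S2060
import Cfsg.Agent.S2061
import Cfsg.Agent.S2062
import Cfsg.Agent.S2063
import Cfsg.Agent.S2064
import Cfsg.Agent.S2065
import Cfsg.Agent.S2066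
import Cfsg.Agent.S2067
import Cfsg.Agent.S2074

/-!
# S3540, quasisimple rows, degree at most 12: the sporadic groups (helper30)
-/

set_option autoImplicit false
set_option maxRecDepth 100000

universe u v

namespace Cfsg.Agent.H30.HTS

open Cfsg Cfsg.Geo Cfsg.Agent.H915.LD Cfsg.Agent.H337.HT Cfsg.Agent.H936.List12

/-- the search, for a group with known order and `Out` -/
theorem dead_out {T : Type u} [Group T] {o k n : ℕ} (ns : List ℕ) (q₀ fq : ℕ) (ho : Nat.card T = o) (ho0 : 0 < k * o)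
    (hk : Nat.card (Cfsg.Out T) = k) (h2 : 2 ≤ q₀) (hns : ns.all (fun n => Nat.ble 2 n) = true)
    (h1 : (List.range q₀).all (fun q => Nat.ble q 1 || Nat.ble 2 (Nat.gcd q o)) = true)
    (h : ns.all (fun n => loopQ o (k * o) n fq q₀) = true) (hn : n ∈ ns) : Dead n T := by
  have hfin : Finite T := Nat.finite_of_card_ne_zero (by
    rw [ho]
    rintro rfl
    rw [mul_zero] at ho0
    exact lt_irrefl _ ho0)
  refine dead_at ns q₀ fq ho ?_ ho0 h2 hns h1 h hn
  have h3 := H713.card_mulAut_dvd (S := T) (o := k) (by rw [hk])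
  rwa [ho] at h3

/-- the degrees -/
def ns7 : List ℕ := [7, 8, 9, 10, 11, 12]

theorem dead_m11 {n : ℕ} (hn : n ∈ ns7) : Dead n Spor.M11 :=
  dead_out ns7 7 25 H852.IMMathieu.card_M11 (by norm_num) S2060.result (by norm_num) (by decide) (by decide)
    (by decide +kernel) hn

theorem dead_m12 {n : ℕ} (hn : n ∈ ns7) : Dead n Spor.M12 :=
  dead_out ns7 7 106 H852.IMMathieu.card_M12 (by norm_num) S2061.result (by norm_num) (by decide) (by decide)
    (by decide +kernel) hn

theorem dead_m22 {n : ℕ} (hn : n ∈ ns7) : Dead n Spor.M22 :=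
  dead_out ns7 13 196 H852.IMMathieu.card_M22 (by norm_num) S2062.result (by norm_num) (by decide) (by decide)
    (by decide +kernel) hn

theorem dead_m23 {n : ℕ} (hn : n ∈ ns7) : Dead n Spor.M23 :=
  dead_out ns7 13 541 H852.IMMathieu.card_M23 (by norm_num) S2063.result (by norm_num) (by decide) (by decide)
    (by decide +kernel) hn

theorem dead_m24 {n : ℕ} (hn : n ∈ ns7) : Dead n M24 :=
  dead_out ns7 13 1961 S0364.result (by norm_num) S2064.result (by norm_num) (by decide) (by decide)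
    (by decide +kernel) hn

theorem dead_j1 {n : ℕ} (hn : n ∈ ns7) : Dead n Spor.J1 :=
  dead_out ns7 13 97 SporRec.J1.Words.card_J1 (by norm_num) S2065.result (by norm_num) (by decide) (by decide)
    (by decide +kernel) hn

theorem dead_j2 {n : ℕ} (hn : n ∈ ns7) : Dead n Spor.J2 :=
  dead_out ns7 11 225 S1619.result.2.2.2 (by norm_num) S2066.result (by norm_num) (by decide) (by decide)
    (by decide +kernel) hn

theorem dead_j3 {n : ℕ} (hn : n ∈ ns7) {K : Type} [Field K] [Fintype K] {ω : K} (hK : Fintype.card K = 4)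
    (hω : ω ^ 2 + ω + 1 = 0) : Dead n (Spor.J3 K ω) :=
  dead_out ns7 7 1376 (H898.J3Cent.base ⟨K, inferInstance, inferInstance, ω, hK, hω, ⟨MulEquiv.refl _⟩⟩).2.1
    (by norm_num) (S2067.result hK ω hω) (by norm_num) (by decide) (by decide) (by decide +kernel) hn

theorem dead_suz {n : ℕ} (hn : n ∈ [12]) : Dead n Spor.Suz :=
  dead_out [12] 17 213 S1694.result.2 (by norm_num) S2074.result (by norm_num) (by decide) (by decide)
    (by decide +kernel) hn

variable {F : Type u} [Field F] [Finite F] {p n : ℕ} [hp : Fact p.Prime] [CharP F p]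

/-- **The sporadic groups, degree 5, 7, ..., 12.** -/
theorem dead_spor {P : Subgroup (Matrix.GeneralLinearGroup (Fin n) F)} (hC : Core P) (hpc : ¬ p ∣ Nat.card (Soc P))
    (h : SporC (Soc P)) (hn : n ≤ 12) (h5 : 5 ≤ n) (h6 : n ≠ 6) : Dead n (Soc P) := by
  by_cases hn5 : n = 5
  · exfalso
    subst hn5
    obtain ⟨⟨e⟩, h3⟩ := H921.Spor.core_five hC (Or.inl (by
      unfold IsSporadicGroup
      rcases h with h | h | h | h | h | h | h | h | h <;> tauto))
    apply hpc
    have hp3 : p ∣ 3 := by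
      have : ((3 : ℕ) : F) = 0 := by exact_mod_cast h3
      exact (CharP.cast_eq_zero_iff F p 3).1 this
    rw [Nat.card_congr e.toEquiv, H852.IMMathieu.card_M11]
    exact hp3.trans (by norm_num)
  · have hn7 : n ∈ ns7 := by
      have : 7 ≤ n := by omega
      unfold ns7
      interval_cases n <;> simp
    rcases h with ⟨⟨e⟩⟩ | ⟨⟨e⟩⟩ | ⟨⟨e⟩⟩ | ⟨⟨e⟩⟩ | ⟨⟨e⟩⟩ | ⟨⟨e⟩⟩ | ⟨⟨e⟩⟩ | ⟨K, _, _, ω, hK, hω, ⟨e⟩⟩ | ⟨⟨e⟩⟩
    · exact (dead_m11 hn7).congr e.symm
    · exact (dead_m12 hn7).congr e.symm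
    · exact (dead_m22 hn7).congr e.symm
    · exact (dead_m23 hn7).congr e.symm
    · exact (dead_m24 hn7).congr e.symm
    · exact (dead_j1 hn7).congr e.symm
    · exact (dead_j2 hn7).congr e.symm
    · exact (dead_j3 hn7 hK hω).congr e.symm
    · have hp3 : p ≠ 3 := by
        rintro rfl
        apply hpc
        rw [Nat.card_congr e.toEquiv, S1694.result.2]
        norm_num
      have h12 := (H878.Sz.core_Suz hC e (by rw [Fintype.card_fin]; exact hn) p hp3).1
      rw [Fintype.card_fin] at h12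
      exact (dead_suz (by rw [h12]; simp)).congr e.symm

end Cfsg.Agent.H30.HTS
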