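import Cfsg.Agent.H337.HT.Num

/-!
# S3540, quasisimple rows, degree at most 12 (helper30): tools

`dead_at` : the kernel search for given degrees; `|Aut T|` may be replaced by a multiple.
-/

set_option autoImplicit false

universe u v

namespace Cfsg.Agent.H30.HTS

open Cfsg.Agent.H337.HT

theorem cand_mono {R o A A' n q : ℕ} (hA : A ∣ A') (h : Cand R o A n q) : Cand R o A' n q := by
  obtain ⟨m, k, h1, h2, h3, h4, h5, h6⟩ := h
  exact ⟨m, k, h1, h2, h3, h4, h5.trans (Nat.mul_dvd_mul_left _ hA), h6⟩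

/-- **The search for the degrees `ns`.** -/
theorem dead_at {T : Type u} [Group T] {o A n : ℕ} (ns : List ℕ) (q₀ fq : ℕ) (ho : Nat.card T = o)
    (hA : Nat.card (MulAut T) ∣ A) (hA0 : 0 < A) (h2 : 2 ≤ q₀) (hns : ns.all (fun n => Nat.ble 2 n) = true)
    (h1 : (List.range q₀).all (fun q => Nat.ble q 1 || Nat.ble 2 (Nat.gcd q o)) = true)
    (h : ns.all (fun n => loopQ o A n fq q₀) = true) (hn : n ∈ ns) : Dead n T := by
  intro q hq hc
  rw [ho] at hc ⊢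
  rw [List.all_eq_true] at h hns
  have hn2 : 2 ≤ n := Nat.le_of_ble_eq_true (hns n hn)
  intro hcand
  exact loopQ_spec hn2 hA0 fq q₀ h2 (h n hn) q (le_of_coprime h1 hq hc) hc (cand_mono hA hcand)

/-- the refined inequality -/
theorem cand_fine {R o A n q : ℕ} (hc : Cand R o A n q) (hq : 2 ≤ q) (hA : 0 < A) {g k : ℕ}
    (hg : Nat.gcd ((q - 1) * A) (q ^ n - 1) = g) (hk : 2 ≤ k) (hko : (k - 1) * g < o) :
    (k - 1) * q ^ n ≤ k * g ^ 2 := by
  obtain ⟨m, h, -, h2, hm, ho, hd, hle⟩ := hc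
  have hmg : m ∣ g := by rw [← hg]; exact Nat.dvd_gcd ((Dvd.intro _ rfl).trans hd) hm
  have hg0 : 0 < g := by rw [← hg]; exact Nat.gcd_pos_of_pos_left _ (Nat.mul_pos (by omega) hA)
  have hmle : m ≤ g := Nat.le_of_dvd hg0 hmg
  have hm0 : 0 < m := Nat.pos_of_dvd_of_pos hmg hg0
  have hoh : o ≤ m * h := Nat.le_of_dvd (Nat.mul_pos hm0 (by omega)) ho
  have hkh : k ≤ h := by
    by_contra hlt
    have h3 : h ≤ k - 1 := by omega
    have h4 : m * h ≤ g * (k - 1) := Nat.mul_le_mul hmle h3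
    rw [mul_comm g] at h4
    omega
  -- `(h - 1) / h` grows
  obtain ⟨k', rfl⟩ : ∃ k', k = k' + 1 := ⟨k - 1, by omega⟩
  obtain ⟨h', rfl⟩ : ∃ h', h = h' + 1 := ⟨h - 1, by omega⟩
  simp only [Nat.add_sub_cancel] at hle ⊢
  have h5 : m ^ 2 ≤ g ^ 2 := Nat.pow_le_pow_left hmle 2
  have h6 : h' * (k' * q ^ n) ≤ h' * ((k' + 1) * g ^ 2) := by
    calc h' * (k' * q ^ n) = k' * (h' * q ^ n) := by ring
      _ ≤ k' * ((h' + 1) * m ^ 2) := Nat.mul_le_mul_left _ hle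
      _ ≤ k' * ((h' + 1) * g ^ 2) := Nat.mul_le_mul_left _ (Nat.mul_le_mul_left _ h5)
      _ = (k' * h' + k') * g ^ 2 := by ring
      _ ≤ (k' * h' + h') * g ^ 2 := Nat.mul_le_mul_right _ (by omega)
      _ = h' * ((k' + 1) * g ^ 2) := by ring
  exact Nat.le_of_mul_le_mul_left h6 (by omega)

end Cfsg.Agent.H30.HTS
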